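import Mathlib
import Cfsg.Agent.Lib.Helper33.Torus.Defs
import Cfsg.Agent.Lib.Helper37.Torus.Small

set_option autoImplicit false

/-!
Project TORUS (helper33), package [CYC]: semiregular orbit count for the `r`-part of `c`.
-/

namespace Cfsg.Agent.Lib.Helper37.Torus

universe u

/-- In a cyclic `r`-group `⟨c1⟩` of order `r^e`, every nontrivial element `g` has a power which
generates the subgroup of order `r`: whatever commutes with `g` commutes with `c1^(r^(e-1))`. -/
theorem commute_socle_of_commute {G : Type u} [Group G] {r e : ℕ} (hr : r.Prime)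
    {c1 : G} (ho1 : orderOf c1 = r ^ e) {g : G} (hg : g ∈ Subgroup.zpowers c1) (hg1 : g ≠ 1)
    {x : G} (hx : Commute g x) : Commute (c1 ^ (r ^ (e - 1))) x := by
  have hfin : IsOfFinOrder c1 := by
    rw [← orderOf_pos_iff, ho1]
    exact pow_pos hr.pos _
  have hg' : g ∈ Submonoid.powers c1 := hfin.mem_powers_iff_mem_zpowers.2 hg
  obtain ⟨i, rfl⟩ := (Submonoid.mem_powers_iff _ _).1 hg'
  have hi0 : i ≠ 0 := by
    rintro rfl
    exact hg1 (pow_zero c1)
  obtain ⟨a, t, hrt, rfl⟩ := Nat.exists_eq_pow_mul_and_not_dvd hi0 r hr.one_lt.ne'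
  have hae : a < e := by
    by_contra hcon
    apply hg1
    rw [← orderOf_dvd_iff_pow_eq_one, ho1]
    exact Dvd.dvd.mul_right (pow_dvd_pow r (not_lt.1 hcon)) t
  -- `(c1^(r^a t))^(r^(e-1-a)) = (c1^(r^(e-1)))^t`
  have h1 : (c1 ^ (r ^ a * t)) ^ (r ^ (e - 1 - a)) = (c1 ^ (r ^ (e - 1))) ^ t := by
    rw [← pow_mul, ← pow_mul]
    congr 1
    have : r ^ (e - 1) = r ^ a * r ^ (e - 1 - a) := by
      rw [← pow_add]
      congr 1
      omega
    rw [this]
    ring
  have ho0 : orderOf (c1 ^ (r ^ (e - 1))) = r := by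
    rw [orderOf_pow_of_dvd (pow_pos hr.pos _).ne'
      (by rw [ho1]; exact pow_dvd_pow r (Nat.sub_le e 1)), ho1,
      Nat.pow_div (Nat.sub_le e 1) hr.pos]
    have : e - (e - 1) = 1 := by omega
    rw [this, pow_one]
  have hcop : t.Coprime (orderOf (c1 ^ (r ^ (e - 1)))) := by
    rw [ho0]
    exact ((Nat.Prime.coprime_iff_not_dvd hr).2 hrt).symm
  obtain ⟨m, hm⟩ := exists_pow_eq_self_of_coprime hcop
  have h2 : Commute ((c1 ^ (r ^ a * t)) ^ (r ^ (e - 1 - a))) x := hx.pow_left _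
  rw [h1] at h2
  have h3 := h2.pow_left m
  rw [hm] at h3
  exact h3

theorem pkgCyc : Cfsg.Agent.Lib.Helper33.Torus.PkgCyc.{u} := by
  intro G _ _ p _ V H hV hHN hHC c hcH r e hr hrp he hdvd
  have hp : p.Prime := Fact.out
  have hc0 : orderOf c ≠ 0 := (orderOf_pos c).ne'
  obtain ⟨c1, hc1, ho1⟩ : ∃ c1 : G, c1 = c ^ (orderOf c / r ^ e) ∧ orderOf c1 = r ^ e :=
    ⟨_, rfl, orderOf_pow_orderOf_div hc0 hdvd⟩
  obtain ⟨c0, hc0def⟩ : ∃ c0 : G, c0 = c1 ^ (r ^ (e - 1)) := ⟨_, rfl⟩
  have ho0 : orderOf c0 = r := by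
    rw [hc0def, orderOf_pow_of_dvd (pow_pos hr.pos _).ne'
      (by rw [ho1]; exact pow_dvd_pow r (Nat.sub_le e 1)), ho1,
      Nat.pow_div (Nat.sub_le e 1) hr.pos]
    have : e - (e - 1) = 1 := by omega
    rw [this, pow_one]
  have hc1H : c1 ∈ H := by rw [hc1]; exact H.pow_mem hcH _
  have hc0H : c0 ∈ H := by rw [hc0def]; exact H.pow_mem hc1H _
  have hc0ne : c0 ≠ 1 := by
    intro h
    rw [h, orderOf_one] at ho0
    exact hr.one_lt.ne ho0
  have hc0C : c0 ∉ Subgroup.centralizer (V : Set G) := by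
    intro h
    have : c0 ∈ H ⊓ Subgroup.centralizer (V : Set G) := ⟨hc0H, h⟩
    rw [hHC] at this
    exact hc0ne (Subgroup.mem_bot.1 this)
  obtain ⟨D, hD⟩ : ∃ D : Subgroup G, D = V ⊓ Subgroup.centralizer ({c0} : Set G) := ⟨_, rfl⟩
  have hDV : D ≤ V := by rw [hD]; exact inf_le_left
  have hmemD : ∀ v : G, v ∈ D ↔ v ∈ V ∧ Commute v c0 := by
    intro v
    rw [hD, Subgroup.mem_inf, Subgroup.mem_centralizer_singleton_iff]
    rfl
  have hne : ¬ V ≤ D := by
    intro hle
    apply hc0C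
    rw [Subgroup.mem_centralizer_iff]
    intro v hv
    exact ((hmemD v).1 (hle hv)).2
  obtain ⟨k, hk⟩ := relIndex_eq_pow p hV D
  have hk1 : k ≠ 0 := by
    rintro rfl
    rw [pow_zero] at hk
    exact hne (Subgroup.relIndex_eq_one.1 hk)
  have hVcard : Nat.card V = Nat.card D * p ^ k := by
    rw [← hk]
    exact card_eq_card_mul_relIndex hDV
  refine ⟨k, Nat.one_le_iff_ne_zero.2 hk1, ?_, ?_, ?_⟩
  · -- `r^e ∣ p^k - 1` : free action of `⟨c1⟩` on `V ∖ D`
    have hinv : ∀ g ∈ Subgroup.zpowers c1, ∀ v ∈ (V : Set G) \ (D : Set G),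
        g * v * g⁻¹ ∈ (V : Set G) \ (D : Set G) := by
      intro g hg v hv
      have hgN : g ∈ Subgroup.normalizer (V : Set G) :=
        hHN ((Subgroup.zpowers_le.2 hc1H) hg)
      have hgc : Commute g c0 := by
        obtain ⟨i, rfl⟩ := Subgroup.mem_zpowers_iff.1 hg
        rw [hc0def]
        exact ((Commute.refl c1).pow_right _).zpow_left i
      refine ⟨(Subgroup.mem_normalizer_iff.1 hgN v).1 hv.1, ?_⟩
      intro hmem
      apply hv.2
      have h2 : Commute (g * v * g⁻¹) c0 := ((hmemD _).1 hmem).2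
      have h3 : Commute (g⁻¹ * (g * v * g⁻¹) * g) c0 :=
        (hgc.inv_left.mul_left h2).mul_left hgc
      have h4 : g⁻¹ * (g * v * g⁻¹) * g = v := by group
      rw [h4] at h3
      exact (hmemD v).2 ⟨hv.1, h3⟩
    letI act : MulAction (Subgroup.zpowers c1) ((V : Set G) \ (D : Set G) : Set G) :=
      conjSetAction (Subgroup.zpowers c1) ((V : Set G) \ (D : Set G)) hinv
    have hfree : ∀ x : ((V : Set G) \ (D : Set G) : Set G),
        MulAction.stabilizer (Subgroup.zpowers c1) x = ⊥ := by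
      intro x
      rw [Subgroup.eq_bot_iff_forall]
      intro g hg
      by_contra hg1
      have hgx : (g : G) * (x : G) * (g : G)⁻¹ = (x : G) :=
        congrArg Subtype.val (MulAction.mem_stabilizer_iff.1 hg)
      have hcomm : Commute (g : G) (x : G) := mul_inv_eq_iff_eq_mul.1 hgx
      have hg1' : (g : G) ≠ 1 := fun h => hg1 (Subtype.ext h)
      have h5 := commute_socle_of_commute hr ho1 g.2 hg1' hcomm
      rw [← hc0def] at h5
      exact x.2.2 ((hmemD _).2 ⟨x.2.1, h5.symm⟩)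
    have hequiv := MulAction.selfEquivOrbitsQuotientProd hfree
    have hcardΩ : Nat.card ((V : Set G) \ (D : Set G) : Set G)
        = Nat.card (Quotient (MulAction.orbitRel (Subgroup.zpowers c1)
            ((V : Set G) \ (D : Set G) : Set G))) * r ^ e := by
      rw [Nat.card_congr hequiv, Nat.card_prod, Nat.card_zpowers, ho1]
    have hcardΩ2 : Nat.card ((V : Set G) \ (D : Set G) : Set G) = Nat.card V - Nat.card D := by
      rw [Nat.card_coe_set_eq, Set.ncard_sdiff (fun v hv => hDV hv)]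
      rfl
    have hdvd2 : r ^ e ∣ Nat.card D * (p ^ k - 1) := by
      have : Nat.card D * (p ^ k - 1) = Nat.card V - Nat.card D := by
        rw [hVcard, Nat.mul_sub_one]
      rw [this, ← hcardΩ2, hcardΩ]
      exact Dvd.intro_left _ rfl
    obtain ⟨m, hm⟩ := (hV.to_le hDV).exists_card_eq
    have hcop : (r ^ e).Coprime (Nat.card D) := by
      rw [hm]
      exact Nat.Coprime.pow _ _ ((Nat.coprime_primes hr hp).2 hrp)
    exact hcop.dvd_of_dvd_mul_left hdvd2
  · -- `p^k ≤ |V : C_V(c)|`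
    have hle : V ⊓ Subgroup.centralizer ({c} : Set G) ≤ D := by
      intro v hv
      rw [hmemD]
      refine ⟨hv.1, ?_⟩
      have h1 : Commute v c := Subgroup.mem_centralizer_singleton_iff.1 hv.2
      rw [hc0def, hc1]
      exact (h1.pow_right _).pow_right _
    have hdvd3 := Subgroup.relIndex_dvd_of_le_left V hle
    rw [hk] at hdvd3
    have hne0 : (V ⊓ Subgroup.centralizer ({c} : Set G)).relIndex V ≠ 0 :=
      Subgroup.index_ne_zero_of_finite
    exact Nat.le_of_dvd (Nat.pos_of_ne_zero hne0) hdvd3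
  · rw [hVcard]
    exact Nat.le_mul_of_pos_left _ Nat.card_pos

end Cfsg.Agent.Lib.Helper37.Torus
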